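import Groth.Agent.QCohBase.Exact
import Groth.Agent.QCohBase.CohProps
import Groth.Agent.QCohBase.Noetherian
import Groth.Agent.QCohBase.Push
import Groth.Agent.RPushQCoh.MV
import Groth.Agent.RPushQCoh.FiveTerm
import Groth.Agent.QCohBase.Qcqs
import Mathlib.AlgebraicGeometry.IdealSheaf.Functorial
import Mathlib.Algebra.Category.ModuleCat.Sheaf.PullbackFree
import Mathlib.AlgebraicGeometry.Morphisms.Affine
import Groth.Prelude.Def_Coh
import Groth.Agent.AssPts.Structure

/-!
# Serre's criterion for affineness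
-/

noncomputable section

universe u

open CategoryTheory Limits AlgebraicGeometry Opposite TopologicalSpace

namespace Groth.Agent.Affineness

open QCohBase

variable {X : Scheme.{u}}

/-- The structure sheaf, in the category of modules of the scheme. -/
abbrev OO (X : Scheme.{u}) : X.Modules := Coh.structureModule X

lemma isQuasicoherent_OO (X : Scheme.{u}) : (OO X).IsQuasicoherent :=
  AssPts.isQuasicoherent_structureModule X

/-- The section `1`. -/
abbrev oneSec (X : Scheme.{u}) : Γ(OO X, ⊤) := (1 : Γ(X, ⊤))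

/-- Quasi-coherent ideals have no `H¹`. -/
def IdealsAcyclic (X : Scheme.{u}) : Prop :=
  ∀ (I : X.Modules) (i : I ⟶ Coh.structureModule X), Mono i → Coh.IsQCoh I →
    Subsingleton (Coh.HH X I 1)

/-- Sections lift along epimorphisms whose kernel has no `H¹`. -/
lemma app_top_surjective {T : ShortComplex X.Modules} (hT : T.ShortExact)
    (h : Subsingleton (Coh.HH X T.X₁ 1)) : Function.Surjective (T.g.app ⊤) := fun s =>
  (CovSystem.hDelta_zero_iff (toAb_shortExact hT) s).1 (@Subsingleton.elim _ h _ _)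

/-- Restriction of functions to a subscheme. -/
def resClosed {W : Scheme.{u}} (i : W ⟶ X) : OO X ⟶ (Scheme.Modules.pushforward i).obj (OO W) :=
  SheafOfModules.unitToPushforwardObjUnit i.toRingCatSheafHom

lemma resClosed_app {W : Scheme.{u}} (i : W ⟶ X) (U : X.Opens) (a : Γ(X, U)) :
    (resClosed i).app U a = i.app U a := rfl

/-- Global functions surject onto the functions of closed subschemes. -/
theorem appTop_surjective (h : IdealsAcyclic X) {W : Scheme.{u}} (i : W ⟶ X)
    [IsClosedImmersion i] : Function.Surjective i.appTop := by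
  haveI := isQuasicoherent_OO W
  let φ := resClosed i
  haveI : Epi φ := by
    haveI : (modAb X).Faithful :=
      inferInstanceAs (SheafOfModules.toSheaf X.ringCatSheaf).Faithful
    haveI : Epi ((modAb X).map φ) :=
      isLocallySurjective_of_basis _ {V | IsAffineOpen V} X.isBasis_affineOpens
        fun U hU => i.app_surjective U hU
    exact (modAb X).epi_of_epi_map this
  let T : ShortComplex X.Modules := ShortComplex.mk (kernel.ι φ) φ (kernel.condition φ)
  have hT : T.ShortExact :=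
    { exact := ShortComplex.exact_of_f_is_kernel _ (kernelIsKernel φ)
      mono_f := inferInstanceAs (Mono (kernel.ι φ)), epi_g := ‹Epi φ› }
  exact app_top_surjective hT (h (kernel φ) (kernel.ι φ) inferInstance
    (isQuasicoherent_kernel φ (isQuasicoherent_OO X) (isQuasicoherent_pushforward (OO W) i)))

/-- Every closed point has a basic open neighbourhood inside any open neighbourhood. -/
theorem exists_basicOpen_le (h : IdealsAcyclic X) {x : X} (hx : IsClosed ({x} : Set X))
    {U : X.Opens} (hxU : x ∈ U) : ∃ f : Γ(X, ⊤), x ∈ X.basicOpen f ∧ X.basicOpen f ≤ U := by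
  let Z : Closeds X := ⟨(U : Set X)ᶜ ∪ {x}, U.2.isClosed_compl.union hx⟩
  let I := Scheme.IdealSheafData.vanishingIdeal Z
  let i := I.subschemeι
  have hrange : Set.range i = (U : Set X)ᶜ ∪ {x} := by
    rw [Scheme.IdealSheafData.range_subschemeι, Scheme.IdealSheafData.coe_support_vanishingIdeal]
    rfl
  let W := I.subscheme
  let U₁ : W.Opens := i ⁻¹ᵁ U
  let U₂ : W.Opens := i ⁻¹ᵁ ⟨({x} : Set X)ᶜ, hx.isOpen_compl⟩
  have hcov : (⊤ : W.Opens) ≤ U₁ ⊔ U₂ := fun w _ => by
    by_cases hw : i w ∈ U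
    · exact Or.inl hw
    · exact Or.inr fun he => hw (Set.mem_singleton_iff.1 he ▸ hxU)
  have hdisj : U₁ ⊓ U₂ = ⊥ := by
    refine le_bot_iff.1 fun w hw => ?_
    have hmem : i w ∈ (U : Set X)ᶜ ∪ {x} := hrange ▸ Set.mem_range_self w
    rcases hmem with h' | h'
    · exact absurd hw.1 h'
    · exact absurd h' hw.2
  let V : Bool → W.Opens := fun b => if b then U₁ else U₂
  let sf : ∀ b, Γ(W, V b) := fun b => if b then 1 else 0
  haveI : Subsingleton Γ(W, U₁ ⊓ U₂) := by rw [hdisj]; infer_instance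
  obtain ⟨e, he, -⟩ := TopCat.Sheaf.existsUnique_gluing' W.sheaf V ⊤
    (fun b => homOfLE le_top) (hcov.trans (sup_le (le_iSup V true) (le_iSup V false))) sf (by
      rintro (_ | _) (_ | _)
      · rfl
      · haveI : Subsingleton Γ(W, U₂ ⊓ U₁) := by rw [inf_comm]; infer_instance
        exact @Subsingleton.elim Γ(W, U₂ ⊓ U₁) _ _ _
      · exact @Subsingleton.elim Γ(W, U₁ ⊓ U₂) _ _ _
      · rfl)
  obtain ⟨f, hf⟩ := appTop_surjective h i e
  have hb : i ⁻¹ᵁ X.basicOpen f = W.basicOpen e := by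
    rw [← hf]; exact Scheme.preimage_basicOpen i f
  have h1 : U₁ ⊓ W.basicOpen e = U₁ := by
    rw [← W.basicOpen_res e (homOfLE le_top : U₁ ⟶ ⊤).op]
    exact (congrArg _ (he true)).trans W.basicOpen_one
  have h2 : U₂ ⊓ W.basicOpen e = ⊥ := by
    rw [← W.basicOpen_res e (homOfLE le_top : U₂ ⟶ ⊤).op]
    exact (congrArg _ (he false)).trans (W.basicOpen_zero U₂)
  refine ⟨f, ?_, ?_⟩
  · obtain ⟨w, hw⟩ : x ∈ Set.range i := hrange ▸ Or.inr rfl
    have hw' : w ∈ U₁ ⊓ W.basicOpen e := h1.symm ▸ (show i w ∈ U from hw ▸ hxU)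
    rw [← hb] at hw'
    exact hw ▸ hw'.2
  · intro y hy
    by_contra hyU
    obtain ⟨w, hw⟩ : y ∈ Set.range i := hrange ▸ Or.inl hyU
    have hw' : w ∈ U₂ ⊓ W.basicOpen e := by
      refine ⟨fun he' => hyU ?_, ?_⟩
      · rw [← hw, Set.mem_singleton_iff.1 he']
        exact hxU
      · rw [← hb]
        exact (show i w ∈ X.basicOpen f from hw.symm ▸ hy)
    rw [h2] at hw'
    exact hw'

/-- Multiplication by a global function. -/
def mulHom (f : Γ(X, ⊤)) : OO X ⟶ OO X :=
  (SheafOfModules.unitHomEquiv _).symm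
    (PresheafOfModules.sectionsMk (fun U => X.presheaf.map (homOfLE (le_top (a := U.unop))).op f)
      fun {U V} g => by
        change (X.presheaf.map _ ≫ X.presheaf.map g) f = _
        rw [← Functor.map_comp]
        rfl)

lemma mulHom_app (f : Γ(X, ⊤)) (U : X.Opens) (a : Γ(X, U)) :
    (mulHom f).app U a = (a * X.presheaf.map (homOfLE le_top).op f : Γ(X, U)) := rfl

lemma mulHom_app_top (f : Γ(X, ⊤)) (a : Γ(X, ⊤)) :
    (mulHom f).app ⊤ a = (a * f : Γ(X, ⊤)) := by
  rw [mulHom_app, show (homOfLE (le_top (a := (⊤ : X.Opens)))).op = 𝟙 (op ⊤) from rfl,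
    X.presheaf.map_id]
  rfl

/-- A family of functions whose basic opens cover generates the unit ideal. -/
theorem span_eq_top (h : IdealsAcyclic X) (s : Finset Γ(X, ⊤))
    (hs : ∀ f ∈ s, IsAffineOpen (X.basicOpen f)) (hcov : ∀ x : X, ∃ f ∈ s, x ∈ X.basicOpen f) :
    Ideal.span (s : Set Γ(X, ⊤)) = ⊤ := by
  classical
  suffices ∀ t : Finset Γ(X, ⊤), t ⊆ s → ∃ (I : X.Modules) (j : I ⟶ OO X), Mono j ∧
      I.IsQuasicoherent ∧ (∀ a : Γ(I, ⊤), (j.app ⊤ a : Γ(X, ⊤)) ∈ Ideal.span (t : Set Γ(X, ⊤))) ∧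
      ∀ f ∈ t, ∃ a, j.app ⊤ a = f by
    obtain ⟨I, j, hj, hI, hsp, hmem⟩ := this s subset_rfl
    haveI : IsIso j := by
      refine isIso_of_app_surjective j hI (isQuasicoherent_OO X)
        (fun f : {f // f ∈ s} => X.basicOpen f.1) (fun f => hs f.1 f.2)
        (fun x => let ⟨f, hf, hx⟩ := hcov x; ⟨⟨f, hf⟩, hx⟩) fun f t => ?_
      obtain ⟨a, ha⟩ := hmem f.1 f.2
      let r := X.presheaf.map (homOfLE (X.basicOpen_le f.1)).op f.1
      have hu : IsUnit r := RingedSpace.isUnit_res_basicOpen _ f.1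
      let t' : Γ(X, X.basicOpen f.1) := t
      refine ⟨(t' * ↑(hu.unit⁻¹)) • mres I (X.basicOpen_le f.1) a, ?_⟩
      rw [Scheme.Modules.Hom.app_smul, ← app_nat, ha]
      change t' * ↑(hu.unit⁻¹) * r = t'
      rw [mul_assoc, IsUnit.val_inv_mul hu, mul_one]
    obtain ⟨a, ha⟩ : ∃ a, j.app ⊤ a = oneSec X :=
      ((AddCommGrpCat.epi_iff_surjective (j.app ⊤)).1 inferInstance) (oneSec X)
    have h1 := hsp a
    rw [ha] at h1
    exact (Ideal.eq_top_iff_one _).2 h1
  intro t
  induction t using Finset.induction with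
  | empty =>
    intro _
    refine ⟨kernel (𝟙 (OO X)), kernel.ι _, inferInstance,
      isQuasicoherent_kernel _ (isQuasicoherent_OO X) (isQuasicoherent_OO X), fun a => ?_,
      fun f hf => absurd hf (Finset.notMem_empty f)⟩
    have h0 : kernel.ι (𝟙 (OO X)) = 0 := by
      simpa using kernel.condition (𝟙 (OO X))
    rw [h0]
    exact Submodule.zero_mem (Ideal.span ((∅ : Finset Γ(X, ⊤)) : Set Γ(X, ⊤)))
  | insert f t _ ih =>
    intro hst
    obtain ⟨I, j, hj, hI, hsp, hmem⟩ := ih ((Finset.subset_insert f t).trans hst)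
    let φ : I ⊞ OO X ⟶ OO X := biprod.desc j (mulHom f)
    have hbi : (I ⊞ OO X).IsQuasicoherent := by
      refine isQuasicoherent_of_extension
        (T := ShortComplex.mk biprod.inl biprod.snd biprod.inl_snd) ?_ hI (isQuasicoherent_OO X)
      exact (ShortComplex.Splitting.ofHasBinaryBiproduct I (OO X)).shortExact
    haveI : Mono (kernel.ι φ ≫ biprod.snd) := by
      refine Preadditive.mono_of_cancel_zero _ fun g hg => ?_
      have hk : (g ≫ kernel.ι φ ≫ biprod.fst) ≫ j = 0 := by
        have := congrArg (g ≫ ·) (kernel.condition φ)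
        simp only [comp_zero] at this
        have hφ : φ = biprod.fst ≫ j + biprod.snd ≫ mulHom f := biprod.desc_eq
        have h2 := (congrArg (fun ψ => g ≫ kernel.ι φ ≫ ψ) hφ).symm.trans this
        simp only [Preadditive.comp_add, reassoc_of% hg, zero_comp, add_zero] at h2
        simpa only [Category.assoc] using h2
      rw [← zero_comp (f := j), cancel_mono] at hk
      rw [← cancel_mono (kernel.ι φ), zero_comp]
      apply biprod.hom_ext
      · rw [zero_comp, Category.assoc, hk]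
      · rw [zero_comp, Category.assoc, hg]
    let T : ShortComplex X.Modules :=
      ShortComplex.mk (kernel.ι φ) (cokernel.π (kernel.ι φ)) (cokernel.condition _)
    have hT : T.ShortExact :=
      { exact := ShortComplex.exact_cokernel _
        mono_f := inferInstanceAs (Mono (kernel.ι φ))
        epi_g := inferInstanceAs (Epi (cokernel.π (kernel.ι φ))) }
    have hK : (kernel φ).IsQuasicoherent :=
      isQuasicoherent_kernel φ hbi (isQuasicoherent_OO X)
    have hsurj := app_top_surjective hT (h (kernel φ) (kernel.ι φ ≫ biprod.snd) inferInstance hK)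
    have hfac : ∀ s : Γ(I ⊞ OO X, ⊤),
        (Abelian.factorThruCoimage φ).app ⊤ ((cokernel.π (kernel.ι φ)).app ⊤ s) = φ.app ⊤ s :=
      fun s => congrArg (fun ψ : I ⊞ OO X ⟶ OO X => ψ.app ⊤ s) (Abelian.coimage.fac φ)
    refine ⟨Abelian.coimage φ, Abelian.factorThruCoimage φ, inferInstance,
      isQuasicoherent_cokernel _ hK hbi, fun a => ?_, fun g hg => ?_⟩
    · obtain ⟨s, rfl⟩ := hsurj a
      change ((Abelian.factorThruCoimage φ).app ⊤ ((cokernel.π (kernel.ι φ)).app ⊤ s) : Γ(X, ⊤)) ∈ _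
      rw [hfac s]
      have hs' : φ.app ⊤ s =
          j.app ⊤ ((biprod.fst : I ⊞ OO X ⟶ I).app ⊤ s) +
            (mulHom f).app ⊤ ((biprod.snd : I ⊞ OO X ⟶ OO X).app ⊤ s) :=
        congrArg (fun ψ : I ⊞ OO X ⟶ OO X => ψ.app ⊤ s) biprod.desc_eq
      rw [hs', mulHom_app_top]
      exact Ideal.add_mem (Ideal.span ((insert f t : Finset Γ(X, ⊤)) : Set Γ(X, ⊤)))
        (Ideal.span_mono (Finset.coe_subset.2 (Finset.subset_insert f t)) (hsp _))
        (Ideal.mul_mem_left (Ideal.span ((insert f t : Finset Γ(X, ⊤)) : Set Γ(X, ⊤))) _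
          (Ideal.subset_span (Finset.mem_insert_self f t)))
    · rcases Finset.mem_insert.1 hg with rfl | hg
      · refine ⟨(cokernel.π (kernel.ι φ)).app ⊤
          ((biprod.inr : OO X ⟶ I ⊞ OO X).app ⊤ (oneSec X)), (hfac _).trans ?_⟩
        have : biprod.inr ≫ φ = mulHom g := biprod.inr_desc _ _
        refine (congrArg (fun ψ : OO X ⟶ OO X => ψ.app ⊤ (oneSec X)) this).trans ?_
        exact (mulHom_app_top g (1 : Γ(X, ⊤))).trans (one_mul g)
      · obtain ⟨a, ha⟩ := hmem g hg
        refine ⟨(cokernel.π (kernel.ι φ)).app ⊤ ((biprod.inl : I ⟶ I ⊞ OO X).app ⊤ a),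
          (hfac _).trans ?_⟩
        refine Eq.trans ?_ ha
        exact congrArg (fun ψ : I ⟶ OO X => ψ.app ⊤ a) (biprod.inl_desc _ _)

/-- Serre's criterion. -/
theorem isAffine_of_idealsAcyclic [CompactSpace X] (h : IdealsAcyclic X) : IsAffine X := by
  classical
  let G : Set Γ(X, ⊤) := {f | IsAffineOpen (X.basicOpen f)}
  have hcov : ∀ x : X, ∃ f ∈ G, x ∈ X.basicOpen f := by
    intro x
    obtain ⟨y, hy, hyc⟩ := IsClosed.exists_closed_singleton isClosed_closure
      (⟨x, subset_closure rfl⟩ : (closure ({x} : Set X)).Nonempty)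
    obtain ⟨U, hU, hyU, -⟩ :=
      Opens.isBasis_iff_nbhd.1 X.isBasis_affineOpens (U := ⊤) (Opens.mem_top y)
    obtain ⟨f, hyf, hfU⟩ := exists_basicOpen_le h hyc hyU
    refine ⟨f, ?_, ((specializes_iff_mem_closure.2 hy).mem_open (X.basicOpen f).2 hyf)⟩
    have he : X.basicOpen (X.presheaf.map (homOfLE (le_top (a := U))).op f) = X.basicOpen f := by
      rw [X.basicOpen_res, inf_eq_right.2 hfU]
    exact (he ▸ hU.basicOpen _ : IsAffineOpen (X.basicOpen f))
  obtain ⟨t, ht⟩ := isCompact_univ.elim_finite_subcover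
    (fun f : G => (X.basicOpen f.1 : Set X)) (fun f => (X.basicOpen f.1).2)
    (fun x _ => let ⟨f, hf, hx⟩ := hcov x; Set.mem_iUnion.2 ⟨⟨f, hf⟩, hx⟩)
  refine isAffine_of_isAffineOpen_basicOpen (t.image Subtype.val : Set Γ(X, ⊤)) ?_ ?_
  · refine span_eq_top h _ (fun f hf => ?_) fun x => ?_
    · obtain ⟨g, -, rfl⟩ := Finset.mem_image.1 hf
      exact g.2
    · obtain ⟨g, hg, hx⟩ := Set.mem_iUnion₂.1 (ht (Set.mem_univ x))
      exact ⟨g.1, Finset.mem_image_of_mem _ hg, hx⟩
  · intro f hf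
    obtain ⟨g, -, rfl⟩ := Finset.mem_image.1 hf
    exact g.2

end Groth.Agent.Affineness
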